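import Groth.Agent.Lib.QCAlgSub.Sections
import Groth.Agent.Lib.QCAlgPush.Basic
import Groth.Agent.Lib.ProjMor.QAff
import Groth.Prelude.Def_Mor2

/-!
# A quasi-affine morphism of finite type is an immersion into an affine one of finite type
-/

set_option autoImplicit false
set_option linter.style.haveILetI false

noncomputable section

universe u

open CategoryTheory CategoryTheory.Limits AlgebraicGeometry Opposite TopologicalSpace

namespace Groth.Agent.Lib.QAffFactor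

open Groth.Agent.Lib Groth.Agent.Lib.Modules.SubStalk Groth.Agent.Lib.Modules.ExtendFT

variable {X Y : Scheme.{u}}

theorem isSeparated_of_isQuasiAffine (f : X ⟶ Y) (hf : Mor2.IsQuasiAffine f) : IsSeparated f := by
  refine (IsZariskiLocalAtTarget.iff_of_iSup_eq_top (P := @IsSeparated)
    (fun V : Y.affineOpens => (V : Y.Opens)) (iSup_affineOpens_eq_top Y)).2 fun V => ?_
  haveI := hf.2 V.1 V.2
  haveI : IsAffine ((V : Y.Opens) : Scheme.{u}) := V.2
  exact inferInstance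

theorem locallyOfFiniteType_π (A : RelSpec.QCAlg Y)
    (hA : ∀ U : Y.Opens, IsAffineOpen U → ((A.str.app (op U)).hom).FiniteType) :
    LocallyOfFiniteType A.π := by
  haveI : IsZariskiLocalAtTarget @LocallyOfFiniteType.{u} :=
    HasRingHomProperty.instIsZariskiLocalAtTarget _
  refine (IsZariskiLocalAtTarget.iff_of_iSup_eq_top (P := @LocallyOfFiniteType.{u})
    (fun V : Y.affineOpens => (V : Y.Opens)) (iSup_affineOpens_eq_top Y)).2 fun V => ?_
  haveI : IsAffine ((V : Y.Opens) : Scheme.{u}) := V.2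
  haveI : IsAffine (A.π ⁻¹ᵁ (V : Y.Opens) : A.spec.Opens) := V.2.preimage A.π
  haveI := RelSpecBasics.Gamma.isIso_gammaAff A V.1 V.2
  rw [HasRingHomProperty.iff_of_isAffine (P := @LocallyOfFiniteType)]
  have e : A.π.app (V : Y.Opens) = A.str.app (op (V : Y.Opens)) ≫ inv (A.gammaAff V.1 V.2) := by
    exact (IsIso.eq_comp_inv _).2 (A.π_app_gammaAff V.1 V.2)
  have h : (A.π.app (V : Y.Opens)).hom.FiniteType := by
    rw [e, CommRingCat.hom_comp]
    exact (RingHom.FiniteType.of_surjective _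
      (ConcreteCategory.bijective_of_isIso (inv (A.gammaAff V.1 V.2))).2).comp (hA _ V.2)
  rw [← Scheme.Hom.resLE_eq_morphismRestrict,
    show (A.π.resLE (V : Y.Opens) (A.π ⁻¹ᵁ (V : Y.Opens)) le_rfl).appTop = _ from
      Scheme.Hom.resLE_app_top _ _, Scheme.Hom.appLE_eq_app, CommRingCat.hom_comp, CommRingCat.hom_comp]
  exact ((RingHom.FiniteType.of_surjective _
    (ConcreteCategory.bijective_of_isIso (A.π ⁻¹ᵁ (V : Y.Opens)).topIso.inv).2).comp h).comp
      (RingHom.FiniteType.of_surjective _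
        (ConcreteCategory.bijective_of_isIso (V : Y.Opens).topIso.hom).2)

theorem isImmersion_restrict_of_resLE {Z : Scheme.{u}} (j : X ⟶ Z) (W : Z.Opens) (O : X.Opens)
    (e : O = j ⁻¹ᵁ W) (h : IsImmersion (j.resLE W O e.le)) : IsImmersion (j ∣_ W) := by
  subst e
  rwa [← Scheme.Hom.resLE_eq_morphismRestrict]

theorem exists_factor [CompactSpace Y] [QuasiSeparatedSpace Y] (f : X ⟶ Y) (hf : Mor2.IsQuasiAffine f)
    [LocallyOfFiniteType f] :
    ∃ (X'' : Scheme.{u}) (g : X'' ⟶ Y) (j : X ⟶ X''), IsAffineHom g ∧ LocallyOfFiniteType g ∧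
      IsImmersion j ∧ j ≫ g = f := by
  classical
  haveI := hf.1
  haveI := isSeparated_of_isQuasiAffine f hf
  let B := RelSpec.QCAlg.directImage f
  haveI := QCAlgSub.Basic.isQuasicoherent_toModule B
  have himm : ∀ V : Y.affineOpens, ∃ (n : ℕ)
      (i : (f ⁻¹ᵁ (V : Y.Opens) : Scheme.{u}) ⟶ 𝔸(ULift.{u} (Fin n); ((V : Y.Opens) : Scheme.{u}))),
      IsImmersion i ∧ i ≫ (𝔸(ULift.{u} (Fin n); ((V : Y.Opens) : Scheme.{u})) ↘ _) = f ∣_ (V : Y.Opens) :=
    fun V =>
      haveI := hf.2 V.1 V.2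
      ProjMor.QAff.exists_immersion (f ∣_ (V : Y.Opens))
  choose n i hi hiπ using himm
  let t : ∀ V : Y.affineOpens, Fin (n V) → Γ(B.toModule, (V : Y.Opens)) := fun V a =>
    (f ⁻¹ᵁ (V : Y.Opens)).topIso.hom ((i V).appTop (AffineSpace.coord _ ⟨a⟩))
  obtain ⟨s, hs, hcov⟩ := isCompact_and_isOpen_iff_finite_and_eq_biUnion_affineOpens.mp
    (⟨isCompact_univ, isOpen_univ⟩ : IsCompact (Set.univ : Set Y) ∧ IsOpen (Set.univ : Set Y))
  choose S hS hmem using fun W : Y.affineOpens => QCAlgSub.Sections.exists_family_qcqs W.2 (t W)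
  have hsup : ∀ K : Finset Y.affineOpens, ∃ T : Family B.toModule, IsLocFG T ⊤ ∧
      ∀ W ∈ K, ∀ x, S W x ≤ T x := by
    intro K
    induction K using Finset.induction with
    | empty => exact ⟨_, QCAlgSub.Sections.isLocFG_bot ⊤, by simp⟩
    | insert W K hWK ih =>
      obtain ⟨T, hT, hle⟩ := ih
      refine ⟨_, QCAlgSub.Sections.isLocFG_sup_family (hS W) hT, fun W' hW' x => ?_⟩
      rcases Finset.mem_insert.mp hW' with rfl | h
      · exact le_sup_left
      · exact (hle W' h x).trans le_sup_right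
  obtain ⟨T, hT, hle⟩ := hsup hs.toFinset
  haveI := isQCoh_subMod hT
  haveI : SheafOfModules.IsFiniteType (R := Y.ringCatSheaf) _ := isFT_subMod hT
  let A := QCAlgSub.Basic.subAlg B (ι T)
  haveI : LocallyOfFiniteType A.π := locallyOfFiniteType_π A fun U hU =>
    QCAlgSub.Basic.finiteType_subAlg B (ι T) hU
  obtain ⟨j, hj, hjeq⟩ := QCAlgPush.ofHom_surjective (A.gammaHom ≫ QCAlgSub.Basic.incl B (ι T))
  refine ⟨A.spec, A.π, j, inferInstance, inferInstance, ?_, hj⟩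
  refine (IsZariskiLocalAtTarget.iff_of_iSup_eq_top (P := @IsImmersion)
    (fun W : s => A.π ⁻¹ᵁ (W.1 : Y.Opens)) ?_).2 fun W => ?_
  · refine eq_top_iff.mpr fun x _ => ?_
    obtain ⟨a, ha, hxa⟩ := Set.mem_iUnion₂.mp (hcov ▸ Set.mem_univ (A.π x))
    exact Opens.mem_iSup.mpr ⟨⟨a, ha⟩, hxa⟩
  let V : Y.affineOpens := W.1
  have hpre : f ⁻¹ᵁ (V : Y.Opens) = j ⁻¹ᵁ (A.π ⁻¹ᵁ (V : Y.Opens)) := by
    rw [← Scheme.Hom.comp_preimage, hj]
  refine isImmersion_restrict_of_resLE j _ _ hpre ?_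
  -- the coordinates come from the subalgebra
  have hlift : ∀ a, ∃ r : Γ(A.spec, A.π ⁻¹ᵁ (V : Y.Opens)),
      j.appLE (A.π ⁻¹ᵁ (V : Y.Opens)) (f ⁻¹ᵁ (V : Y.Opens)) hpre.le r = t V a := by
    intro a
    obtain ⟨g, hg⟩ := exists_ι_app (S := T) (t := t V a)
      fun y hy => hle V (hs.mem_toFinset.mpr W.2) y (hmem V a y hy)
    haveI := RelSpecBasics.Gamma.isIso_gammaAff A V.1 V.2
    let σ : A.presheaf.obj (op (V : Y.Opens)) :=
      ⟨QCAlgSub.Basic.jm B (ι T) V g, QCAlgSub.Basic.adj_le_loc B (ι T) _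
        (QCAlgSub.Basic.jm_mem_adj B (ι T) _ g)⟩
    obtain ⟨r, hr⟩ := (ConcreteCategory.bijective_of_isIso (A.gammaAff V.1 V.2)).2 σ
    refine ⟨r, ?_⟩
    have h1 := congr_app (congrArg RelSpec.QCAlg.Hom.hom hjeq) (op (V : Y.Opens))
    rw [show (QCAlgPush.ofHom A.π f j hj).hom = AffAlg.algHom A.π f j hj from rfl,
      AffAlgBij.algHom_app] at h1
    refine (ConcreteCategory.congr_hom h1 r).trans ?_
    change (QCAlgSub.Basic.incl B (ι T)).hom.app (op (V : Y.Opens))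
      (A.gammaMap.app (op (V : Y.Opens)) r) = t V a
    rw [A.gammaMap_app V.1 V.2, hr]
    exact hg
  choose r hr using hlift
  let v : (A.π ⁻¹ᵁ (V : Y.Opens) : Scheme.{u}) ⟶
      𝔸(ULift.{u} (Fin (n V)); ((V : Y.Opens) : Scheme.{u})) :=
    AffineSpace.homOfVector (A.π ∣_ (V : Y.Opens))
      fun a => (A.π ⁻¹ᵁ (V : Y.Opens)).topIso.inv (r a.down)
  haveI := hi V
  have hcomp : j.resLE (A.π ⁻¹ᵁ (V : Y.Opens)) (f ⁻¹ᵁ (V : Y.Opens)) hpre.le ≫ v = i V := by
    refine AffineSpace.hom_ext ?_ fun a => ?_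
    · rw [Category.assoc, AffineSpace.homOfVector_over, hiπ V, ← cancel_mono (V : Y.Opens).ι,
        Category.assoc, morphismRestrict_ι, morphismRestrict_ι, Scheme.Hom.resLE_comp_ι_assoc, hj]
    · rw [Scheme.Hom.comp_appTop, CommRingCat.comp_apply, AffineSpace.homOfVector_appTop_coord,
        show (j.resLE (A.π ⁻¹ᵁ (V : Y.Opens)) (f ⁻¹ᵁ (V : Y.Opens)) hpre.le).appTop = _ from
          Scheme.Hom.resLE_app_top _ _]
      simp only [CommRingCat.comp_apply, Iso.inv_hom_id_apply, hr, t, Iso.hom_inv_id_apply]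
  have : IsImmersion (j.resLE (A.π ⁻¹ᵁ (V : Y.Opens)) (f ⁻¹ᵁ (V : Y.Opens)) hpre.le ≫ v) :=
    hcomp ▸ hi V
  exact IsImmersion.of_comp _ v

end Groth.Agent.Lib.QAffFactor
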